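import Mathlib
import Cfsg.Prelude.Def_OddOrderLocal
import Cfsg.Prelude.Def_CaseTheorems
import Cfsg.Agent.OddOrderLocal.Metacyclic
import Cfsg.Agent.OddOrderLocal.MetacyclicCoprime
import Cfsg.Agent.H545.Yoshida
import Cfsg.Agent.FastGrp
import Cfsg.Agent.Prune
set_option linter.all false
prune_inst 0x7f00000000000000000000000000000000000000000000000000000000000000000000000000000000000000000000000000000000000000000000000000000000000000000000000000000000000000003fffffffffffffffffffffffffffbeffbdffffffff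
open scoped Cfsg.Agent.FastGrp

/-!
# Metacyclic Sylow subgroups

* `card_le`: a quotient of exponent `p` of a metacyclic group has order at most `p ^ 2`;
* `not_wreathed`: wreathed groups are not metacyclic;
* `comm_of_perfect`: a metacyclic Sylow `p`-subgroup, `p` odd, of a perfect group is abelian.
-/

set_option autoImplicit false

namespace Cfsg.Agent.H332.Meta

open Subgroup Cfsg.Agent.OddOrderLocal.Metacyclic
open scoped commutatorElement

theorem cyclic_card_le {C : Type*} [Group C] (h : IsCyclic C) {p : ℕ} (hp : 0 < p)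
    (he : ∀ x : C, x ^ p = 1) : Nat.card C ≤ p := by
  obtain ⟨g, hg⟩ := h.exists_generator
  rw [← orderOf_eq_card_of_forall_mem_zpowers hg]
  exact Nat.le_of_dvd hp (orderOf_dvd_of_pow_eq_one (he g))

/-- a finite metacyclic group of exponent `p` has order at most `p ^ 2`. -/
theorem card_le {A : Type*} [Group A] (hm : Cfsg.IsMetacyclic A) {p : ℕ} (hp : 0 < p)
    (he : ∀ a : A, a ^ p = 1) : Nat.card A ≤ p ^ 2 := by
  obtain ⟨N, hN, hc, hq⟩ := hm
  have h1 : Nat.card N ≤ p := cyclic_card_le hc hp (fun x => Subtype.ext (he x))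
  have h2 : Nat.card (A ⧸ N) ≤ p := by
    refine cyclic_card_le hq hp (fun x => ?_)
    obtain ⟨a, rfl⟩ := QuotientGroup.mk_surjective x
    rw [← QuotientGroup.mk_pow, he]
    rfl
  rw [card_eq_card_quotient_mul_card_subgroup N, pow_two]
  exact Nat.mul_le_mul h2 h1

/-- A metacyclic group has cyclic derived subgroup. -/
theorem isCyclic_commutator {X : Type*} [Group X] (hm : Cfsg.IsMetacyclic X) : IsCyclic (_root_.commutator X) := by
  obtain ⟨N, hN, hc, hq⟩ := hm
  have h1 : _root_.commutator X ≤ N := by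
    have : IsMulCommutative (X ⧸ N) := inferInstance
    rw [_root_.commutator_def, Subgroup.commutator_le]
    intro a _ b _
    rw [← QuotientGroup.eq_one_iff]
    rw [commutatorElement_def]
    simp only [QuotientGroup.mk_mul, QuotientGroup.mk_inv]
    rw [mul_comm' (a : X ⧸ N) (b : X ⧸ N)]
    group
  exact isCyclic_of_injective (inclusion h1) (inclusion_injective h1)

/-- Wreathed 2-groups are not metacyclic. -/
theorem not_wreathed {S : Type*} [Group S] [Finite S] (hw : Cfsg.IsWreathed S) : ¬ Cfsg.IsMetacyclic S := by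
  intro hm
  obtain ⟨n, hn, hcard, x0, y0, z, hx0, hxy0, hint0, hz, hzxy0⟩ := hw
  -- elements of order four
  have hzz : z * z = 1 := by rw [← pow_two, ← hz]; exact pow_orderOf_eq_one z
  have hz1 : z ≠ 1 := by rintro rfl; rw [orderOf_one] at hz; omega
  set k := 2 ^ (n - 2) with hk
  obtain ⟨x, hx⟩ : ∃ x, x = x0 ^ k := ⟨_, rfl⟩
  obtain ⟨y, hy⟩ : ∃ y, y = y0 ^ k := ⟨_, rfl⟩
  have hox : orderOf x = 4 := by
    rw [hx, orderOf_pow_of_dvd (by positivity) (by rw [hx0, hk]; exact pow_dvd_pow 2 (by omega)), hx0, hk,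
      Nat.pow_div (by omega) (by norm_num)]
    rw [show n - (n - 2) = 2 by omega]
  have hxy : x * y = y * x := by rw [hx, hy]; exact (show Commute x0 y0 from hxy0).pow_pow k k
  have hzxy : z * x * z⁻¹ = y := by rw [hx, hy, ← conj_pow, hzxy0]
  have hzi : z⁻¹ = z := inv_eq_of_mul_eq_one_left hzz
  have hzyx : z * y * z⁻¹ = x := by
    rw [← hzxy]
    calc z * (z * x * z⁻¹) * z⁻¹ = (z * z) * x * (z * z)⁻¹ := by group
      _ = x := by rw [hzz]; group
  have hint : zpowers x ⊓ zpowers y = ⊥ := by
    rw [eq_bot_iff, ← hint0, hx, hy]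
    exact inf_le_inf (by rw [zpowers_le]; exact pow_mem (mem_zpowers _) _)
      (by rw [zpowers_le]; exact pow_mem (mem_zpowers _) _)
  have hoy : orderOf y = 4 := by
    rw [← hzxy, ← hox]; exact (MulAut.conj z).orderOf_eq x
  have hx4 : x ^ 4 = 1 := by rw [← hox]; exact pow_orderOf_eq_one x
  have hy4 : y ^ 4 = 1 := by rw [← hoy]; exact pow_orderOf_eq_one y
  -- the elements `a = x ^ 2`, `b = x y`, `c = x ^ 2 y ^ 2 = b ^ 2`
  clear_value k
  clear hx hy
  obtain ⟨a, ha⟩ : ∃ a, a = x ^ 2 := ⟨_, rfl⟩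
  obtain ⟨b, hb⟩ : ∃ b, b = x * y := ⟨_, rfl⟩
  obtain ⟨c, hc⟩ : ∃ c, c = x ^ 2 * y ^ 2 := ⟨_, rfl⟩
  have hcxy : Commute x y := hxy
  have hbb : b ^ 2 = c := by rw [hb, hcxy.mul_pow, hc]
  have haa : a ^ 2 = 1 := by rw [ha, ← pow_mul]; exact hx4
  have hcc : c ^ 2 = 1 := by
    rw [hc, (hcxy.pow_pow 2 2).mul_pow, ← pow_mul, ← pow_mul, hx4, hy4, one_mul]
  have hzb : z * b = b * z := by
    have : z * b * z⁻¹ = b := by
      calc z * b * z⁻¹ = (z * x * z⁻¹) * (z * y * z⁻¹) := by rw [hb]; group
        _ = b := by rw [hzxy, hzyx, hb, hxy]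
    exact mul_inv_eq_iff_eq_mul.1 this
  have hzc : z * c = c * z := by
    rw [← hbb]; exact (show Commute z b from hzb).pow_right 2
  have hab : a * b = b * a := by
    have h1 : Commute a x := by rw [ha]; exact (Commute.refl x).pow_left 2
    have h2 : Commute a y := by rw [ha]; exact hcxy.pow_left 2
    rw [hb]
    exact h1.mul_right h2
  have hac : a * c = c * a := by rw [← hbb]; exact (show Commute a b from hab).pow_right 2
  have hza : z * a * z⁻¹ = a * c := by
    calc z * a * z⁻¹ = (z * x * z⁻¹) ^ 2 := by rw [ha, conj_pow]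
      _ = y ^ 2 := by rw [hzxy]
      _ = a * c := by rw [ha, hc, ← mul_assoc, ← pow_add]; simp [hx4]
  -- the group generated by `a`, `b`, `z`
  set M : Subgroup S := _root_.Subgroup.closure {a, b, z} with hM
  have haM : a ∈ M := _root_.Subgroup.subset_closure (by simp)
  have hbM : b ∈ M := _root_.Subgroup.subset_closure (by simp)
  have hzM : z ∈ M := _root_.Subgroup.subset_closure (by simp)
  have hcM : c ∈ M := by rw [← hbb]; exact pow_mem hbM 2
  -- `c` is central in `M`
  have hcen : ∀ g ∈ M, g * c = c * g := by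
    intro g hg
    induction hg using closure_induction with
    | mem g hg =>
      rcases hg with rfl | rfl | rfl
      · exact hac
      · rw [← hbb]; exact ((Commute.refl _).pow_right 2)
      · exact hzc
    | one => simp
    | mul g h _ _ h1 h2 => exact (show Commute g c from h1).mul_left h2
    | inv g _ h1 => exact (show Commute g c from h1).inv_left
  have hCn : (zpowers (⟨c, hcM⟩ : M)).Normal := by
    refine ⟨fun g hg h => ?_⟩
    obtain ⟨j, rfl⟩ := mem_zpowers_iff.1 hg
    have : h * (⟨c, hcM⟩ : M) * h⁻¹ = ⟨c, hcM⟩ := by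
      rw [mul_inv_eq_iff_eq_mul]
      exact Subtype.ext (hcen h h.2)
    rw [← conj_zpow, this]
    exact zpow_mem (mem_zpowers _) _
  set C : Subgroup M := zpowers (⟨c, hcM⟩ : M) with hC
  -- every element of the quotient is an involution and the generators commute
  have hMm : Cfsg.IsMetacyclic M := isMetacyclic_of_injective M.subtype M.subtype_injective hm
  have hQm : Cfsg.IsMetacyclic (M ⧸ C) :=
    isMetacyclic_of_surjective (QuotientGroup.mk' C) (QuotientGroup.mk'_surjective C) hMm
  set π : M →* M ⧸ C := QuotientGroup.mk' C with hπ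
  set A : M := ⟨a, haM⟩
  set B : M := ⟨b, hbM⟩
  set Z : M := ⟨z, hzM⟩
  set E : M := ⟨c, hcM⟩
  have hπE : π E = 1 := (QuotientGroup.eq_one_iff _).2 (mem_zpowers _)
  have hAB : π A * π B = π B * π A := by
    rw [← map_mul, ← map_mul]; congr 1; exact Subtype.ext hab
  have hZB : π Z * π B = π B * π Z := by
    rw [← map_mul, ← map_mul]; congr 1; exact Subtype.ext hzb
  have hZA : π Z * π A = π A * π Z := by
    have h1 : Z * A * Z⁻¹ = A * E := Subtype.ext hza
    have h2 : Z * A = A * E * Z := by rw [← h1]; group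
    rw [← map_mul, h2, map_mul, map_mul, hπE, mul_one]
  have hA2 : π A * π A = 1 := by
    rw [← map_mul, ← map_one π]; congr 1; exact Subtype.ext (by show a * a = 1; rw [← pow_two]; exact haa)
  have hZ2 : π Z * π Z = 1 := by
    rw [← map_mul, ← map_one π]; congr 1; exact Subtype.ext hzz
  have hB2 : π B * π B = 1 := by
    rw [← map_mul, show B * B = E from Subtype.ext (by show b * b = c; rw [← pow_two]; exact hbb), hπE]
  have hgen : ∀ q : M ⧸ C, q ∈ _root_.Subgroup.closure {π A, π B, π Z} := by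
    intro q
    obtain ⟨⟨g, hg⟩, rfl⟩ := QuotientGroup.mk'_surjective C q
    have h1 : ∀ (g : S) (hg : g ∈ M), π ⟨g, hg⟩ ∈ closure {π A, π B, π Z} := by
      intro g hg
      induction hg using closure_induction with
      | mem g hg =>
        rcases hg with h | h | h
        · subst h; exact _root_.Subgroup.subset_closure (by simp [A])
        · subst h; exact _root_.Subgroup.subset_closure (by simp [B])
        · have h' : g = z := h
          subst h'; exact _root_.Subgroup.subset_closure (by simp [Z])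
      | one => exact one_mem _
      | mul g h hg hh h1 h2 => exact mul_mem h1 h2
      | inv g hg h1 => exact inv_mem h1
    exact h1 g hg
  have hcomm : ∀ q r : M ⧸ C, q * r = r * q := by
    have h0 : ∀ u ∈ ({π A, π B, π Z} : Set (M ⧸ C)), ∀ v ∈ ({π A, π B, π Z} : Set (M ⧸ C)), u * v = v * u := by
      rintro u (rfl | rfl | rfl) v (rfl | rfl | rfl)
      · rfl
      · exact hAB
      · exact hZA.symm
      · exact hAB.symm
      · rfl
      · exact hZB.symm
      · exact hZA
      · exact hZB
      · rfl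
    have h1 : ∀ u ∈ ({π A, π B, π Z} : Set (M ⧸ C)), ∀ r : M ⧸ C, u * r = r * u := by
      intro u hu r
      have hr := hgen r
      induction hr using closure_induction with
      | mem v hv => exact h0 u hu v hv
      | one => simp
      | mul v w _ _ h1 h2 => exact (show Commute u v from h1).mul_right h2
      | inv v _ h1 => exact (show Commute u v from h1).inv_right
    intro q r
    have hq := hgen q
    induction hq using closure_induction with
    | mem u hu => exact h1 u hu r
    | one => simp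
    | mul v w _ _ h1 h2 => exact (show Commute v r from h1).mul_left h2
    | inv v _ h1 => exact (show Commute v r from h1).inv_left
  have hexp : ∀ q : M ⧸ C, q ^ 2 = 1 := by
    intro q
    have hq := hgen q
    induction hq using closure_induction with
    | mem u hu =>
      rcases hu with rfl | rfl | rfl
      · rw [pow_two]; exact hA2
      · rw [pow_two]; exact hB2
      · rw [pow_two]; exact hZ2
    | one => simp
    | mul v w _ _ h1 h2 => rw [(show Commute v w from hcomm v w).mul_pow, h1, h2, one_mul]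
    | inv v _ h1 => rw [inv_pow, h1, inv_one]
  have hle : Nat.card (M ⧸ C) ≤ 4 := card_le hQm (by norm_num) hexp
  -- eight elements in the quotient
  -- elements of `M`: `z ∉ ⟨x, y⟩`
  set X : Subgroup S := _root_.Subgroup.closure {x, y} with hX
  have hXc : ∀ g ∈ X, ∃ i j : ℤ, g = x ^ i * y ^ j := by
    intro g hg
    induction hg using closure_induction with
    | mem g hg =>
      rcases hg with rfl | rfl
      · exact ⟨1, 0, by simp⟩
      · exact ⟨0, 1, by simp⟩
    | one => exact ⟨0, 0, by simp⟩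
    | mul g h _ _ h1 h2 =>
      obtain ⟨i, j, rfl⟩ := h1
      obtain ⟨i', j', rfl⟩ := h2
      refine ⟨i + i', j + j', ?_⟩
      rw [zpow_add, zpow_add]
      have : y ^ j * x ^ i' = x ^ i' * y ^ j := (hcxy.symm.zpow_zpow j i').eq
      calc x ^ i * y ^ j * (x ^ i' * y ^ j') = x ^ i * (y ^ j * x ^ i') * y ^ j' := by group
        _ = _ := by rw [this]; group
    | inv g _ h1 =>
      obtain ⟨i, j, rfl⟩ := h1
      refine ⟨-i, -j, ?_⟩
      rw [mul_inv_rev, zpow_neg, zpow_neg]
      exact ((hcxy.zpow_zpow i j).inv_inv.eq).symm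
  have hzX : z ∉ X := by
    intro h
    obtain ⟨i, j, hij⟩ := hXc z h
    have hzx : z * x = x * z := by
      rw [hij]
      have h1 : Commute (x ^ i) x := (Commute.refl x).zpow_left i
      have h2 : Commute (y ^ j) x := hcxy.symm.zpow_left j
      exact h1.mul_left h2
    have hyx : y = x := by rw [← hzxy, hzx]; group
    have : x ∈ (zpowers x ⊓ zpowers y : Subgroup S) := ⟨mem_zpowers x, by rw [hyx]; exact mem_zpowers x⟩
    rw [hint, mem_bot] at this
    rw [this, orderOf_one] at hox
    omega
  have hxy_zero : ∀ i j : ℤ, x ^ i * y ^ j = 1 → (4 : ℤ) ∣ i ∧ (4 : ℤ) ∣ j := by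
    intro i j h
    have h1 : x ^ i ∈ (zpowers x ⊓ zpowers y : Subgroup S) :=
      ⟨zpow_mem (mem_zpowers x) i, by
        rw [mul_eq_one_iff_eq_inv] at h
        rw [h]
        show (y ^ j)⁻¹ ∈ zpowers y
        exact inv_mem (zpow_mem (mem_zpowers y) j)⟩
    rw [hint, mem_bot] at h1
    rw [h1, one_mul] at h
    constructor
    · have := orderOf_dvd_iff_zpow_eq_one.2 h1
      rw [hox] at this; exact_mod_cast this
    · have := orderOf_dvd_iff_zpow_eq_one.2 h
      rw [hoy] at this; exact_mod_cast this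
  have hCcard : Nat.card C = 2 := by
    rw [hC, Nat.card_zpowers]
    apply orderOf_eq_prime (p := 2)
    · exact Subtype.ext hcc
    · intro h
      have h1 : c = 1 := congrArg Subtype.val h
      have h2 := hxy_zero 2 2 (by rw [hc] at h1; exact_mod_cast h1)
      omega
  -- the order of `M` is at least 16
  have hM16 : 16 ≤ Nat.card M := by
    -- the subgroup `M ⊓ X` has order at least 8, and `z` is outside
    set Y : Subgroup S := _root_.Subgroup.closure {a, b} with hY
    have hYX : Y ≤ X := by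
      rw [hY, closure_le]
      rintro g (rfl | rfl)
      · rw [ha]; exact pow_mem (_root_.Subgroup.subset_closure (by simp)) 2
      · rw [hb]; exact mul_mem (_root_.Subgroup.subset_closure (by simp)) (_root_.Subgroup.subset_closure (by simp))
    have hYM : Y ≤ M := by
      rw [hY, closure_le]
      rintro g (rfl | rfl)
      · exact haM
      · exact hbM
    have hY8 : 8 ≤ Nat.card Y := by
      have hf : Function.Injective (fun t : Fin 2 × Fin 4 => (⟨a ^ (t.1 : ℕ) * b ^ (t.2 : ℕ),
          mul_mem (pow_mem (_root_.Subgroup.subset_closure (by simp)) _) (pow_mem (_root_.Subgroup.subset_closure (by simp)) _)⟩ : Y)) := by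
        rintro ⟨i, j⟩ ⟨i', j'⟩ h
        have h1 : a ^ (i : ℕ) * b ^ (j : ℕ) = a ^ (i' : ℕ) * b ^ (j' : ℕ) := congrArg Subtype.val h
        have h2 : ∀ (s t : ℕ), a ^ s * b ^ t = x ^ ((2 * s + t : ℕ) : ℤ) * y ^ ((t : ℕ) : ℤ) := by
          intro s t
          rw [hb, hcxy.mul_pow, ha, ← pow_mul, ← mul_assoc, ← pow_add]
          simp only [zpow_natCast]
        rw [h2, h2] at h1
        have h3 : x ^ (((2 * i + j : ℕ) : ℤ) - ((2 * i' + j' : ℕ) : ℤ)) * y ^ (((j : ℕ) : ℤ) - ((j' : ℕ) : ℤ)) = 1 := by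
          rw [zpow_sub, zpow_sub]
          have h4 : (x ^ ((2 * i' + j' : ℕ) : ℤ))⁻¹ * y ^ ((j : ℕ) : ℤ) =
              y ^ ((j : ℕ) : ℤ) * (x ^ ((2 * i' + j' : ℕ) : ℤ))⁻¹ :=
            ((hcxy.zpow_zpow _ _).inv_left).eq
          calc x ^ ((2 * i + j : ℕ) : ℤ) * (x ^ ((2 * i' + j' : ℕ) : ℤ))⁻¹ *
                (y ^ ((j : ℕ) : ℤ) * (y ^ ((j' : ℕ) : ℤ))⁻¹)
              = x ^ ((2 * i + j : ℕ) : ℤ) * ((x ^ ((2 * i' + j' : ℕ) : ℤ))⁻¹ * y ^ ((j : ℕ) : ℤ)) *
                (y ^ ((j' : ℕ) : ℤ))⁻¹ := by group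
            _ = (x ^ ((2 * i + j : ℕ) : ℤ) * y ^ ((j : ℕ) : ℤ)) * (x ^ ((2 * i' + j' : ℕ) : ℤ))⁻¹ *
                (y ^ ((j' : ℕ) : ℤ))⁻¹ := by rw [h4]; group
            _ = 1 := by
                rw [h1]
                have h5 : y ^ ((j' : ℕ) : ℤ) * (x ^ ((2 * i' + j' : ℕ) : ℤ))⁻¹ =
                  (x ^ ((2 * i' + j' : ℕ) : ℤ))⁻¹ * y ^ ((j' : ℕ) : ℤ) :=
                  (((hcxy.zpow_zpow _ _).inv_left).eq).symm
                calc _ = x ^ ((2 * i' + j' : ℕ) : ℤ) * (y ^ ((j' : ℕ) : ℤ) * (x ^ ((2 * i' + j' : ℕ) : ℤ))⁻¹) *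
                    (y ^ ((j' : ℕ) : ℤ))⁻¹ := by group
                  _ = 1 := by rw [h5]; group
        obtain ⟨h4, h5⟩ := hxy_zero _ _ h3
        have hi := i.2
        have hi' := i'.2
        have hj := j.2
        have hj' := j'.2
        have hjj : (j : ℕ) = j' := by (clear * - h5; omega)
        have hii : (i : ℕ) = i' := by (clear * - h4 hjj; omega)
        exact Prod.ext (Fin.ext hii) (Fin.ext hjj)
      have := Nat.card_le_card_of_injective _ hf
      rw [Nat.card_prod, Nat.card_fin, Nat.card_fin] at this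
      exact this
    have hdvd : Nat.card Y ∣ Nat.card M := card_dvd_of_le hYM
    obtain ⟨w, hw⟩ := hdvd
    have hne : Y ≠ M := fun h => hzX (hYX (h ▸ hzM))
    have hw0 : w ≠ 0 := by
      rintro rfl
      rw [mul_zero] at hw
      exact Nat.card_pos.ne' hw
    have hw1 : w ≠ 1 := by
      rintro rfl
      rw [mul_one] at hw
      exact hne (eq_of_le_of_card_ge hYM hw.le)
    rw [hw]
    calc 16 = 8 * 2 := rfl
      _ ≤ Nat.card Y * w := Nat.mul_le_mul hY8 (by omega)
  have := card_eq_card_quotient_mul_card_subgroup C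
  rw [hCcard] at this
  omega

/-- the translations of the fibres -/
def trans (p : ℕ) : (Fin p → Multiplicative (ZMod p)) →* Equiv.Perm (Fin p × ZMod p) where
  toFun f :=
    { toFun := fun t => (t.1, t.2 + (f t.1).toAdd)
      invFun := fun t => (t.1, t.2 - (f t.1).toAdd)
      left_inv := fun t => by simp
      right_inv := fun t => by simp }
  map_one' := by ext t <;> simp only [_root_.Pi.one_apply, _root_.toAdd_one, _root_.add_zero, _root_.Prod.mk.eta, _root_.sub_zero, _root_.Equiv.coe_fn_mk, _root_.Equiv.Perm.coe_one, _root_.id_eq]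
  map_mul' f g := by
    ext t
    · rfl
    · simp only [Equiv.Perm.mul_apply, _root_.Pi.mul_apply, _root_.toAdd_mul, _root_.Equiv.coe_fn_mk]; ring

theorem trans_injective (p : ℕ) [NeZero p] : Function.Injective (trans p) := by
  intro f g h
  funext i
  have h1 := congrArg (fun σ : Equiv.Perm (Fin p × ZMod p) => (σ (i, 0)).2) h
  simp only [trans, MonoidHom.coe_mk, OneHom.coe_mk, Equiv.coe_fn_mk, zero_add] at h1
  exact Multiplicative.toAdd.injective h1

/-- `Z_p ≀ Z_p` is not metacyclic, `p` odd. -/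
theorem not_metacyclic_wr {p : ℕ} [hp : Fact p.Prime] (hp2 : p ≠ 2) (P : Sylow p (Equiv.Perm (Fin (p ^ 2)))) :
    ¬ Cfsg.IsMetacyclic (P : Subgroup (Equiv.Perm (Fin (p ^ 2)))) := by
  intro hm
  have hpp := hp.out
  have hne : NeZero p := ⟨hpp.ne_zero⟩
  have hcard : Fintype.card (Fin p × ZMod p) = Fintype.card (Fin (p ^ 2)) := by
    rw [Fintype.card_prod, Fintype.card_fin, ZMod.card, Fintype.card_fin, pow_two]
  let e : Fin p × ZMod p ≃ Fin (p ^ 2) := Fintype.equivOfCardEq hcard
  let φ : (Fin p → Multiplicative (ZMod p)) →* Equiv.Perm (Fin (p ^ 2)) :=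
    (Equiv.permCongrHom e).toMonoidHom.comp (trans p)
  have hφ : Function.Injective φ := (Equiv.permCongrHom e).injective.comp (trans_injective p)
  have hexp : ∀ f : Fin p → Multiplicative (ZMod p), f ^ p = 1 := by
    intro f
    funext i
    rw [Pi.pow_apply, Pi.one_apply]
    apply Multiplicative.toAdd.injective
    rw [toAdd_pow, toAdd_one, nsmul_eq_mul, ZMod.natCast_self, zero_mul]
  have hpg : IsPGroup p φ.range := by
    rintro ⟨_, f, rfl⟩
    exact ⟨1, Subtype.ext (by
      show φ f ^ (p ^ 1) = 1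
      rw [pow_one, ← map_pow, hexp, map_one])⟩
  obtain ⟨P', hP'⟩ := hpg.exists_le_sylow
  have e1 : (P : Subgroup (Equiv.Perm (Fin (p ^ 2)))) ≃* P' := Sylow.equiv P P'
  have hm' : Cfsg.IsMetacyclic (P' : Subgroup (Equiv.Perm (Fin (p ^ 2)))) :=
    isMetacyclic_of_surjective e1.toMonoidHom e1.surjective hm
  have hme : Cfsg.IsMetacyclic φ.range := isMetacyclic_of_le hm' hP'
  have h1 : Nat.card φ.range ≤ p ^ 2 := by
    refine card_le hme hpp.pos ?_
    rintro ⟨_, f, rfl⟩
    exact Subtype.ext (by
      show φ f ^ p = 1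
      rw [← map_pow, hexp, map_one])
  have h2 : Nat.card φ.range = p ^ p := by
    rw [← Nat.card_congr (MonoidHom.ofInjective hφ).toEquiv, Nat.card_pi, Finset.prod_const]
    simp [Nat.card_eq_fintype_card]
  rw [h2] at h1
  have h3 : p ≤ 2 := (Nat.pow_le_pow_iff_right hpp.one_lt).1 h1
  have := hpp.two_le
  omega

/-- If a normal Sylow `p`-subgroup `R` of `N` is contained in `N'` then `[R, A] = R` for a complement `A`. -/
theorem commutator_eq {N : Type*} [Group N] [Finite N] {p : ℕ} [hp : Fact p.Prime] (R A : Subgroup N) [hR : R.Normal]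
    (hRp : IsPGroup p R) (hA : (Nat.card A).Coprime p) (hRA : R ⊔ A = ⊤) (hle : R ≤ _root_.commutator N) :
    ⁅R, A⁆ = R := by
  have hle1 : ⁅R, A⁆ ≤ R := commutator_le_left R A
  -- `[R, A]` is normal in `N`
  have hn : (⁅R, A⁆ : Subgroup N).Normal := by
    rw [← normalizer_eq_top_iff, eq_top_iff, ← hRA]
    refine sup_le ?_ ?_
    · exact Subgroup.normalizer_commutator_ge_left R A
    · exact Subgroup.normalizer_commutator_ge_right R A
  -- `K = [R, A] [R, R]`
  set K : Subgroup N := ⁅R, A⁆ ⊔ ⁅R, R⁆ with hK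
  have hKn : K.Normal := inferInstance
  have hKR : K ≤ R := sup_le hle1 (commutator_le_left R R)
  set π : N →* N ⧸ K := QuotientGroup.mk' K with hπ
  have hπs : Function.Surjective π := QuotientGroup.mk'_surjective K
  have hcR : ∀ r ∈ R, ∀ q : N, π r * π q = π q * π r := by
    intro r hr q
    have h0 : ∀ s : N, ⁅r, s⁆ ∈ K → π r * π s = π s * π r := by
      intro s hs
      have h1 : π ⁅r, s⁆ = 1 := (QuotientGroup.eq_one_iff _).2 hs
      rw [map_commutatorElement] at h1
      exact commutatorElement_eq_one_iff_mul_comm.1 h1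
    have hq : q ∈ R ⊔ A := by rw [hRA]; exact mem_top q
    rw [sup_eq_closure] at hq
    induction hq using closure_induction with
    | mem s hs =>
      rcases hs with hs | hs
      · exact h0 s (mem_sup_right (commutator_mem_commutator hr hs))
      · exact h0 s (mem_sup_left (commutator_mem_commutator hr hs))
    | one => simp only [_root_.map_one, _root_.mul_one, _root_.one_mul]
    | mul s t _ _ h1 h2 =>
      rw [map_mul]
      exact (show Commute (π r) (π s) from h1).mul_right h2
    | inv s _ h1 =>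
      rw [map_inv]
      exact (show Commute (π r) (π s) from h1).inv_right
  -- the commutator subgroup of the quotient is contained in the image of `A`
  have hcomm : (_root_.commutator N).map π ≤ A.map π := by
    rw [_root_.commutator_def, map_commutator, Subgroup.commutator_le]
    rintro _ ⟨g, -, rfl⟩ _ ⟨h, -, rfl⟩
    have hdec : ∀ g : N, ∃ r ∈ R, ∃ a ∈ A, g = r * a := by
      intro g
      have hg : g ∈ ((R ⊔ A : Subgroup N) : Set N) := by rw [hRA]; exact mem_top g
      rw [normal_mul] at hg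
      obtain ⟨r, hr, a, ha, rfl⟩ := hg
      exact ⟨r, hr, a, ha, rfl⟩
    obtain ⟨r, hr, a, ha, rfl⟩ := hdec g
    obtain ⟨s, hs, b, hb, rfl⟩ := hdec h
    have h1 : ⁅π (r * a), π (s * b)⁆ = ⁅π a, π b⁆ := by
      rw [map_mul, map_mul]
      simp only [commutatorElement_def, mul_inv_rev]
      have c1 := hcR r hr
      have c2 := hcR s hs
      have e1 : π r * π a * (π s * π b) * ((π a)⁻¹ * (π r)⁻¹) * ((π b)⁻¹ * (π s)⁻¹) =
          π r * (π a * π s) * π b * (π a)⁻¹ * (π r)⁻¹ * (π b)⁻¹ * (π s)⁻¹ := by group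
      rw [e1, ← c2 a]
      have e2 : π r * (π s * π a) * π b * (π a)⁻¹ * (π r)⁻¹ * (π b)⁻¹ * (π s)⁻¹ =
          π r * π s * (π a * π b * (π a)⁻¹) * (π r)⁻¹ * (π b)⁻¹ * (π s)⁻¹ := by group
      rw [e2]
      have c3 : (π a * π b * (π a)⁻¹) * (π r)⁻¹ = (π r)⁻¹ * (π a * π b * (π a)⁻¹) := by
        have := c1 (a * b * a⁻¹)
        rw [map_mul, map_mul, map_inv] at this
        exact ((show Commute (π r) (π a * π b * (π a)⁻¹) from this).inv_left.eq).symm
      have c4 : (π a * π b * (π a)⁻¹) * (π b)⁻¹ * (π s)⁻¹ = (π s)⁻¹ * ((π a * π b * (π a)⁻¹) * (π b)⁻¹) := by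
        have := c2 (a * b * a⁻¹ * b⁻¹)
        rw [map_mul, map_mul, map_mul, map_inv, map_inv] at this
        exact ((show Commute (π s) (π a * π b * (π a)⁻¹ * (π b)⁻¹) from this).inv_left.eq).symm
      have c5 : π s * (π r)⁻¹ = (π r)⁻¹ * π s :=
        ((show Commute (π r) (π s) from c1 s).inv_left.eq).symm
      calc π r * π s * (π a * π b * (π a)⁻¹) * (π r)⁻¹ * (π b)⁻¹ * (π s)⁻¹
          = π r * π s * ((π a * π b * (π a)⁻¹) * (π r)⁻¹) * (π b)⁻¹ * (π s)⁻¹ := by group
        _ = π r * (π s * (π r)⁻¹) * ((π a * π b * (π a)⁻¹) * (π b)⁻¹ * (π s)⁻¹) := by rw [c3]; group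
        _ = π a * π b * (π a)⁻¹ * (π b)⁻¹ := by rw [c4, c5]; group
    rw [h1, commutatorElement_def]
    exact mul_mem (mul_mem (mul_mem (mem_map_of_mem π ha) (mem_map_of_mem π hb))
      (inv_mem (mem_map_of_mem π ha))) (inv_mem (mem_map_of_mem π hb))
  -- the image of `R` is trivial
  have hRK : R ≤ K := by
    intro r hr
    rw [← QuotientGroup.eq_one_iff]
    have h1 : π r ∈ A.map π := hcomm (mem_map_of_mem π (hle hr))
    obtain ⟨k, hk⟩ := hRp ⟨r, hr⟩
    have h2 : π r ^ (p ^ k) = 1 := by
      rw [← map_pow, show r ^ (p ^ k) = 1 from congrArg Subtype.val hk, map_one]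
    have h3 : orderOf (π r) ∣ p ^ k := orderOf_dvd_of_pow_eq_one h2
    have h4 : orderOf (π r) ∣ Nat.card A := by
      have h5 : orderOf (π r) ∣ Nat.card (A.map π) := by
        have := _root_.orderOf_dvd_natCard (⟨π r, h1⟩ : A.map π)
        rwa [← orderOf_coe] at this
      exact h5.trans (card_map_dvd A π)
    have h5 : orderOf (π r) = 1 := Nat.eq_one_of_dvd_coprimes (hA.symm.pow_left k) h3 h4
    exact orderOf_eq_one_iff.1 h5
  -- nilpotency
  apply le_antisymm hle1
  by_contra hcon
  have hnil : Group.IsNilpotent R := hRp.isNilpotent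
  set D : Subgroup R := (⁅R, A⁆ : Subgroup N).subgroupOf R with hD
  have hDn : D.Normal := hn.subgroupOf R
  have hD1 : D ⊔ _root_.commutator R = ⊤ := by
    rw [eq_top_iff]
    rintro ⟨r, hr⟩ -
    have h1 : r ∈ K := hRK hr
    rw [hK] at h1
    have h2 : (⁅R, A⁆ ⊔ ⁅R, R⁆ : Subgroup N) = (D ⊔ _root_.commutator R).map R.subtype := by
      rw [Subgroup.map_sup, hD, subgroupOf_map_subtype, inf_eq_left.2 hle1, _root_.commutator_def, map_commutator,
        ← MonoidHom.range_eq_map, range_subtype]
    rw [h2] at h1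
    obtain ⟨x, hx, hxr⟩ := h1
    have : x = ⟨r, hr⟩ := Subtype.ext hxr
    rwa [← this]
  have hD2 : D ≠ ⊤ := by
    intro h
    apply hcon
    intro r hr
    have : (⟨r, hr⟩ : R) ∈ D := by rw [h]; exact mem_top _
    exact this
  -- the quotient `R / D` is perfect and nilpotent
  have hnilq : Group.IsNilpotent (R ⧸ D) := inferInstance
  have hnt : Nontrivial (R ⧸ D) := by
    rw [← not_subsingleton_iff_nontrivial, QuotientGroup.subsingleton_iff]
    exact hD2
  have hperf : _root_.commutator (R ⧸ D) = ⊤ := by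
    have h1 := map_commutator (⊤ : Subgroup R) ⊤ (QuotientGroup.mk' D)
    rw [← _root_.commutator_def, ← MonoidHom.range_eq_map, MonoidHom.range_eq_top.2 (QuotientGroup.mk'_surjective D),
      ← _root_.commutator_def] at h1
    rw [← h1, eq_top_iff]
    intro q _
    obtain ⟨r, rfl⟩ := QuotientGroup.mk'_surjective D q
    have hr : r ∈ D ⊔ _root_.commutator R := by rw [hD1]; exact mem_top r
    have h2 : QuotientGroup.mk' D r ∈ (D ⊔ _root_.commutator R).map (QuotientGroup.mk' D) := mem_map_of_mem _ hr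
    rw [Subgroup.map_sup, QuotientGroup.map_mk'_self, bot_sup_eq] at h2
    exact h2
  have hsol : Group.IsSolvable (R ⧸ D) := inferInstance
  exact absurd hperf (Group.IsSolvable.commutator_lt_top_of_nontrivial (R ⧸ D)).ne

/-- A metacyclic Sylow `p`-subgroup, `p` odd, of a perfect group is abelian. -/
theorem comm_of_perfect {G : Type*} [Group G] [Finite G] {p : ℕ} [hp : Fact p.Prime] (hp2 : p ≠ 2)
    (hG : _root_.commutator G = ⊤) (S : Sylow p G) (hm : Cfsg.IsMetacyclic (S : Subgroup G)) :
    IsMulCommutative (S : Subgroup G) := by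
  by_cases hY : (S : Subgroup G) ⊓ _root_.commutator G = (S : Subgroup G) ⊓
      ⁅Subgroup.normalizer ((S : Subgroup G) : Set G), Subgroup.normalizer ((S : Subgroup G) : Set G)⁆
  swap
  · exfalso
    obtain ⟨P, f, hf⟩ := Cfsg.Agent.H545.Yoshida.yoshida S hY
    exact not_metacyclic_wr hp2 P (isMetacyclic_of_surjective f hf hm)
  rw [hG, inf_top_eq] at hY
  set N := Subgroup.normalizer ((S : Subgroup G) : Set G) with hN
  have hSN : (S : Subgroup G) ≤ N := Subgroup.le_normalizer
  set R : Subgroup N := (S : Subgroup G).subgroupOf N with hR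
  have hRn : R.Normal := by rw [hR, normal_subgroupOf_iff_le_normalizer hSN]
  have eR : R ≃* (S : Subgroup G) := subgroupOfEquivOfLe hSN
  have hRp : IsPGroup p R := S.isPGroup'.of_equiv eR.symm
  have hle : R ≤ _root_.commutator N := by
    rintro ⟨r, hr⟩ hr1
    have h1 : r ∈ (S : Subgroup G) := hr1
    rw [hY] at h1
    have h2 := h1.2
    have h3 : ⁅N, N⁆ = (_root_.commutator N).map N.subtype := by
      rw [_root_.commutator_def, map_commutator, ← MonoidHom.range_eq_map, range_subtype]
    rw [h3] at h2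
    obtain ⟨x, hx, hxr⟩ := h2
    have : x = ⟨r, hr⟩ := Subtype.ext hxr
    rwa [← this]
  have hcop : (Nat.card R).Coprime R.index := by
    have h1 : ¬ p ∣ (S : Subgroup G).index := S.not_dvd_index
    have h2 : R.index ∣ (S : Subgroup G).index := by
      rw [hR]
      exact relIndex_dvd_index_of_le hSN
    obtain ⟨k, hk⟩ := IsPGroup.iff_card.1 hRp
    rw [hk]
    exact (Nat.Coprime.pow_left k ((Nat.Prime.coprime_iff_not_dvd hp.out).2 (fun h => h1 (h.trans h2))))
  obtain ⟨A, hA⟩ := exists_right_complement'_of_coprime hcop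
  have hAcard : (Nat.card A).Coprime p := by
    by_cases hk0 : Nat.card R = 1
    · -- then `p` does not divide the order of `N`
      have h1 : ¬ p ∣ (S : Subgroup G).index := S.not_dvd_index
      have h2 : R.index ∣ (S : Subgroup G).index := by
        rw [hR]
        exact relIndex_dvd_index_of_le hSN
      rw [← hA.symm.index_eq_card, Nat.coprime_comm]
      exact (Nat.Prime.coprime_iff_not_dvd hp.out).2 (fun h => h1 (h.trans h2))
    · obtain ⟨k, hk⟩ := IsPGroup.iff_card.1 hRp
      rw [hk] at hcop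
      have hk1 : k ≠ 0 := by
        rintro rfl
        rw [pow_zero] at hk
        exact hk0 hk
      rw [← hA.symm.index_eq_card, Nat.coprime_comm]
      exact (Nat.coprime_pow_left_iff (Nat.pos_of_ne_zero hk1) _ _).1 hcop
  have hRA := commutator_eq R A hRp hAcard hA.sup_eq_top hle
  -- transport to `G`
  have hmR : Cfsg.IsMetacyclic R := isMetacyclic_of_surjective eR.symm.toMonoidHom eR.symm.surjective hm
  have hc := Cfsg.Agent.OddOrderLocal.MetacyclicCoprime.isMulCommutative_of_commutator_eq hp2 R A hRp hmR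
    (by rw [normalizer_eq_top_iff.2 hRn]; exact le_top) hAcard hRA
  refine ⟨⟨fun a b => ?_⟩⟩
  have h := hc.is_comm.comm (eR.symm a) (eR.symm b)
  rw [← map_mul, ← map_mul] at h
  exact eR.symm.injective h

end Cfsg.Agent.H332.Meta

private theorem dce_10ecf2b18863 : _root_.True := by
  try have : _root_.True := by simp only [_root_.Cfsg.Agent.H332.Meta.trans.eq_1]
  exact _root_.True.intro
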